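import Cfsg.Agent.Lib.Sporadic.Fi23Out.Inj
import Cfsg.Agent.Lib.Sporadic.Fi23Mult.Data

/-!
In a central extension of Fi23 lifts of commuting transpositions commute, and the lifts of the
transpositions can be chosen so that conjugation permutes them as it permutes the points.
-/

set_option autoImplicit false
set_option maxRecDepth 100000

open Cfsg.Spor

namespace CfsgLib.Sporadic.CosetCert.Fi23P.MultFi

open Fi23Data (table forestH prodE7)
open Two (el el_img el_nil el_append dp dp_eq conj_dp comm_of_fix gen_eq_dp gpt gpt_val genPts frame eq_of_sameK sameK)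
open OutFi (dp_injective dp_sq hom_inv_apply zz_img cls_zero)

attribute [local irreducible] PTab.img Forest.cls

theorem fix_symm {a b : Fin table.N} (h : hom (dp a) b = b) : hom (dp b) a = a := by
  have hc : dp a * dp b = dp b * dp a := comm_of_fix (p := b) h
  apply dp_injective
  rw [← conj_dp, ← hc, mul_inv_cancel_right]

theorem cls_of_fix {b : Fin table.N} (h : hom (dp pt) b = b) (hb : b ≠ pt) : forestH.cls b = 1 := by
  have h3 : forestH.cls b < 3 := by
    have h := Fi23Data.forestH_ok b b.2
    simp only [Forest.pointOK, Bool.and_eq_true, Nat.blt_eq] at h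
    exact lt_of_lt_of_le h.1.1 (by decide +kernel)
  rcases (show forestH.cls b = 0 ∨ forestH.cls b = 1 ∨ forestH.cls b = 2 by omega) with h' | h' | h'
  · exact absurd (cls_zero h') hb
  · exact h'
  · exfalso
    have hm : (⟨1, two_le⟩ : Fin table.N) ∈ MulAction.orbit ((sub lH).map hom) b := by
      rw [orbit_H b rfl, Finset.mem_coe, Forest.mem_classSet, h']
      show forestH.cls 1 = 2
      decide +kernel
    obtain ⟨⟨π, hπ⟩, hmv⟩ := hm
    obtain ⟨k, hk, rfl⟩ := Subgroup.mem_map.1 hπ
    have hcomm : k * dp pt * k⁻¹ = dp pt := by rw [conj_dp, hom_fix k hk]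
    have hm2 : hom k b = ⟨1, two_le⟩ := hmv
    have h1 : hom (dp pt) ⟨1, two_le⟩ = ⟨1, two_le⟩ := by
      rw [← hm2]
      conv_lhs => rw [← hcomm]
      rw [map_mul, map_mul, Equiv.Perm.mul_apply, Equiv.Perm.mul_apply, hom_inv_apply, h]
    have h2 := congrArg Fin.val h1
    rw [zz_img] at h2
    revert h2
    show ¬ PTab.runL (List.replicate 9 prodE7) 1 = 1
    decide +kernel

/-- The point 52, in the suborbit of the commuting transpositions. -/
noncomputable def q52 : Fin table.N := ⟨52, by decide +kernel⟩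

theorem pair_conj {a b : Fin table.N} (hne : a ≠ b) (h : hom (dp a) b = b) :
    ∃ g, hom g pt = a ∧ hom g q52 = b := by
  obtain ⟨c, hc⟩ := transitive a
  have hb' : hom c (hom c⁻¹ b) = b := by
    rw [← Equiv.Perm.mul_apply, ← map_mul, mul_inv_cancel, map_one, Equiv.Perm.one_apply]
  have h1 : hom (dp pt) (hom c⁻¹ b) = hom c⁻¹ b := by
    apply (hom c).injective
    rw [hb']
    conv_rhs => rw [← h, ← hc, ← conj_dp]
    rw [map_mul, map_mul, Equiv.Perm.mul_apply, Equiv.Perm.mul_apply]
  have hcl := cls_of_fix h1 fun e => hne (by rw [← hc, ← hb', e])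
  have hm : hom c⁻¹ b ∈ MulAction.orbit ((sub lH).map hom) q52 := by
    rw [orbit_H q52 rfl, Finset.mem_coe, Forest.mem_classSet, hcl]
    show 1 = forestH.cls 52
    decide +kernel
  obtain ⟨⟨π, hπ⟩, hmv⟩ := hm
  obtain ⟨k, hk, rfl⟩ := Subgroup.mem_map.1 hπ
  refine ⟨c * k, by rw [map_mul, Equiv.Perm.mul_apply, hom_fix k hk, hc], ?_⟩
  rw [map_mul, Equiv.Perm.mul_apply, show hom k q52 = hom c⁻¹ b from hmv, hb']

theorem fr_lt : ∀ i < 23, frame.getD i 31671 < table.N := by decide +kernel

theorem fr_inj : ∀ i < 23, ∀ j < 23, frame.getD i 31671 = frame.getD j 31671 → i = j := by decide +kernel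

/-- One of twenty-three points with commuting transpositions. -/
noncomputable def fr (i : Fin 23) : Fin table.N := ⟨frame.getD i 31671, fr_lt i i.2⟩

/-- The word of the transposition of such a point. -/
def frWord (i : ℕ) : List ℕ := OutFi.fullWord (Two.frameHalf.getD i ([], 0))

theorem fr_half : (List.range 23).all (fun i =>
    OutFi.halfK (frame.getD i 31671) (Two.frameHalf.getD i ([], 0))) = true := by decide +kernel

theorem dp_fr (i : Fin 23) : dp (fr i) = el (frWord i) :=
  OutFi.dp_of_half (List.all_eq_true.1 fr_half i (List.mem_range.2 i.2))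

theorem frWord_lt (i : Fin 23) : ∀ x ∈ frWord i, x < 10 :=
  OutFi.fullWord_lt (List.all_eq_true.1 fr_half i (List.mem_range.2 i.2))

theorem fr_fix_tab : (List.range 23).all (fun i => (List.range 23).all fun j =>
    Nat.beq (table.imgW (frWord i) (frame.getD j 31671)) (frame.getD j 31671)) = true := by decide +kernel

theorem fr_fix (i j : Fin 23) : hom (dp (fr i)) (fr j) = fr j := by
  refine Fin.ext ?_
  rw [dp_fr, el_img (frWord_lt i)]
  exact Nat.eq_of_beq_eq_true (List.all_eq_true.1 (List.all_eq_true.1 fr_fix_tab i (List.mem_range.2 i.2)) j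
    (List.mem_range.2 j.2))

/-- The seven places. -/
def seven : List (Fin 23) := [4, 7, 9, 6, 8, 13, 2]

theorem seven_prod : (seven.map fun i => dp (fr i)).prod = dp (fr 0) := by
  have hA : ∀ L : List (Fin 23), (L.map fun i => dp (fr i)).prod =
      el (L.reverse.flatMap fun i : Fin 23 => frWord i) := by
    intro L
    induction L with
    | nil => rfl
    | cons i L ih =>
      rw [List.map_cons, List.prod_cons, ih, List.reverse_cons, List.flatMap_append, el_append,
        List.flatMap_cons, List.flatMap_nil, List.append_nil, dp_fr]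
  rw [hA, dp_fr]
  refine eq_of_sameK ?_ (frWord_lt 0) (by decide +kernel)
  intro x hx
  obtain ⟨i, -, hx⟩ := List.mem_flatMap.1 hx
  exact frWord_lt i x hx

variable {E : Type*} [Group E] (π : E →* Fi23) (hπ : Function.Surjective π)
  (hker : π.ker ≤ Subgroup.center E)

include hker in
theorem central_of {z : E} (hz : π z = 1) (x : E) : x * z = z * x :=
  Subgroup.mem_center_iff.1 (hker (MonoidHom.mem_ker.2 hz)) x

include hker in
theorem comm_value {x y x' y' : E} (hx : π x' = π x) (hy : π y' = π y) :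
    x' * y' * x'⁻¹ * y'⁻¹ = x * y * x⁻¹ * y⁻¹ := by
  obtain ⟨z, hz, rfl⟩ : ∃ z, π z = 1 ∧ x' = x * z := ⟨x⁻¹ * x', by rw [map_mul, map_inv, hx, inv_mul_cancel], by group⟩
  obtain ⟨w, hw, rfl⟩ : ∃ w, π w = 1 ∧ y' = y * w := ⟨y⁻¹ * y', by rw [map_mul, map_inv, hy, inv_mul_cancel], by group⟩
  calc x * z * (y * w) * (x * z)⁻¹ * (y * w)⁻¹
      = x * (z * y) * w * z⁻¹ * x⁻¹ * w⁻¹ * y⁻¹ := by group
    _ = x * (y * z) * w * z⁻¹ * x⁻¹ * w⁻¹ * y⁻¹ := by rw [central_of π hker hz y]
    _ = x * y * (z * w) * z⁻¹ * x⁻¹ * w⁻¹ * y⁻¹ := by group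
    _ = x * y * (w * z) * z⁻¹ * x⁻¹ * w⁻¹ * y⁻¹ := by rw [central_of π hker hw z]
    _ = x * y * (w * x⁻¹) * w⁻¹ * y⁻¹ := by group
    _ = x * y * (x⁻¹ * w) * w⁻¹ * y⁻¹ := by rw [central_of π hker hw x⁻¹]
    _ = x * y * x⁻¹ * y⁻¹ := by group

include hπ hker in
theorem commute_lifts {a b : Fin table.N} (hne : a ≠ b) (hfix : hom (dp a) b = b) {X Y : E}
    (hX : π X = dp a) (hY : π Y = dp b) : Commute X Y := by
  obtain ⟨A, hA⟩ := hπ (dp pt)
  obtain ⟨B, hB⟩ := hπ (dp q52)
  have hq : hom (dp pt) q52 = q52 := by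
    refine Fin.ext ?_
    rw [zz_img]
    show PTab.runL (List.replicate 9 prodE7) 52 = 52
    decide +kernel
  let c : E := A * B * A⁻¹ * B⁻¹
  have hc1 : π c = 1 := by
    simp only [c, map_mul, map_inv, hA, hB]
    rw [conj_dp, hq, mul_inv_cancel]
  have key : ∀ {a b : Fin table.N}, a ≠ b → hom (dp a) b = b → ∀ {X Y : E}, π X = dp a → π Y = dp b →
      X * Y = c * (Y * X) := by
    intro a b hne hfix X Y hX hY
    obtain ⟨g, hga, hgb⟩ := pair_conj hne hfix
    obtain ⟨G, hG⟩ := hπ g
    have h : X * Y * X⁻¹ * Y⁻¹ =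
        (G * A * G⁻¹) * (G * B * G⁻¹) * (G * A * G⁻¹)⁻¹ * (G * B * G⁻¹)⁻¹ :=
      comm_value π hker (by rw [map_mul, map_mul, map_inv, hA, hG, conj_dp, hga, hX])
        (by rw [map_mul, map_mul, map_inv, hB, hG, conj_dp, hgb, hY])
    have h2 : X * Y * X⁻¹ * Y⁻¹ = c := by
      rw [h, show (G * A * G⁻¹) * (G * B * G⁻¹) * (G * A * G⁻¹)⁻¹ * (G * B * G⁻¹)⁻¹ = G * c * G⁻¹ by
        simp only [c]; group, central_of π hker hc1 G, mul_inv_cancel_right]
    rw [← h2]
    group
  choose lift hlift using fun i => hπ (dp (fr i))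
  have hpair : ∀ i j : Fin 23, i ≠ j → lift i * lift j = c * (lift j * lift i) := fun i j hij =>
    key (fun e => hij (Fin.ext (fr_inj i i.2 j j.2 (congrArg Fin.val e)))) (fr_fix i j) (hlift i) (hlift j)
  have hprod : ∀ (k : Fin 23) (L : List (Fin 23)),
      lift k * (L.map lift).prod = c ^ (L.countP fun i => decide (i ≠ k)) * ((L.map lift).prod * lift k) := by
    intro k L
    induction L with
    | nil => simp
    | cons i L ih =>
      rw [List.map_cons, List.prod_cons, List.countP_cons]
      by_cases hik : i = k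
      · subst hik
        simp only [ne_eq, not_true_eq_false, decide_false, Bool.false_eq_true, if_false, add_zero]
        conv_lhs => rw [ih]
        rw [← mul_assoc (lift i), (central_of π hker (by rw [map_pow, hc1, one_pow]) (lift i))]
        simp only [mul_assoc]
      · simp only [ne_eq, hik, not_false_eq_true, decide_true, if_true]
        calc lift k * (lift i * (L.map lift).prod) = c * (lift i * (lift k * (L.map lift).prod)) := by
              rw [← mul_assoc, hpair k i (Ne.symm hik)]; simp only [mul_assoc]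
          _ = c * (lift i * c ^ L.countP (fun j => decide (j ≠ k))) * ((L.map lift).prod * lift k) := by
              rw [ih]; simp only [mul_assoc]
          _ = _ := by
              rw [central_of π hker (by rw [map_pow, hc1, one_pow]) (lift i), ← mul_assoc c, ← pow_succ']
              simp only [mul_assoc]
  have hP : π (seven.map lift).prod = dp (fr 0) := by
    rw [map_list_prod, List.map_map, ← seven_prod]
    exact congrArg List.prod (List.map_congr_left fun i _ => hlift i)
  have hval : ∀ k : Fin 23, k ≠ 0 → c ^ (seven.countP fun i => decide (i ≠ k)) = c := by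
    intro k hk
    have h1 := key (fun e => hk (Fin.ext (fr_inj k k.2 (0 : Fin 23) (by norm_num) (congrArg Fin.val e))))
      (fr_fix k 0) (hlift k) hP
    exact mul_right_cancel ((hprod k seven).symm.trans h1)
  have h6 : c ^ 6 = c := hval 4 (by decide)
  have h7 : c ^ 7 = c := hval 5 (by decide)
  have hc : c = 1 := by
    have : c * c = c := by
      calc c * c = c ^ 6 * c := by rw [h6]
        _ = c ^ 7 := (pow_succ c 6).symm
        _ = c := h7
    exact mul_eq_left.1 this
  show X * Y = Y * X
  rw [key hne hfix hX hY, hc, one_mul]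

theorem gpt_ne_pt : ∀ x < 10, gpt x ≠ pt := by
  intro x hx e
  have h := congrArg Fin.val e
  rw [gpt_val hx] at h
  revert h
  revert hx x
  decide

include hπ hker in
/-- The lifts of the transpositions, permuted by conjugation as the points are. -/
theorem exists_class : ∃ (e : Fin table.N → E) (ω : E), π ω = 1 ∧ (∀ p, π (e p) = dp p) ∧
    (∀ G p, G * e p * G⁻¹ = e (hom (π G) p)) ∧ ∀ p, e p * e p = ω := by
  obtain ⟨X, hX⟩ := hπ (dp pt)
  have hstab : ∀ g ∈ sub lH, ∀ G, π G = g → Commute G X := by
    intro g hg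
    induction hg using Subgroup.closure_induction with
    | mem g hg =>
      obtain ⟨x, hx, rfl⟩ := hg
      have hx' : x < 10 := (show ∀ y ∈ lH, y < 10 by decide) x hx
      intro G hG
      rw [gen_eq_dp x hx'] at hG
      refine commute_lifts π hπ hker (gpt_ne_pt x hx') ?_ hG hX
      rw [← gen_eq_dp x hx']
      exact hom_fix _ (Subgroup.subset_closure ⟨x, hx, rfl⟩)
    | one => intro G hG; exact (central_of π hker hG X).symm
    | mul a b _ _ iha ihb =>
      intro G hG
      obtain ⟨A, hA⟩ := hπ a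
      have hB : π (A⁻¹ * G) = b := by rw [map_mul, map_inv, hA, hG, inv_mul_cancel_left]
      have := (iha A hA).mul_left (ihb _ hB)
      rwa [mul_inv_cancel_left] at this
    | inv a _ iha =>
      intro G hG
      have := (iha G⁻¹ (by rw [map_inv, hG, inv_inv])).inv_left
      rwa [inv_inv] at this
  choose g hg using transitive
  choose G hG using hπ
  refine ⟨fun p => G (g p) * X * (G (g p))⁻¹, X * X, by rw [map_mul, hX, dp_sq], fun p => ?_,
    fun H p => ?_, fun p => ?_⟩
  · rw [map_mul, map_mul, map_inv, hG, hX, conj_dp, hg]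
  · have hK : hom (π ((G (g (hom (π H) p)))⁻¹ * (H * G (g p)))) pt = pt := by
      simp only [map_mul, map_inv, hG, Equiv.Perm.mul_apply, hg]
      rw [Equiv.Perm.inv_def, Equiv.symm_apply_eq, hg]
    have hc := (hstab _ (Two.stab_le hK) _ rfl).eq
    show H * (G (g p) * X * (G (g p))⁻¹) * H⁻¹ =
      G (g (hom (π H) p)) * X * (G (g (hom (π H) p)))⁻¹
    generalize G (g (hom (π H) p)) = A at hc ⊢
    generalize G (g p) = B at hc ⊢
    calc H * (B * X * B⁻¹) * H⁻¹ = A * (A⁻¹ * (H * B) * X) * (H * B)⁻¹ := by group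
      _ = A * (X * (A⁻¹ * (H * B))) * (H * B)⁻¹ := by rw [hc]
      _ = A * X * A⁻¹ := by group
  · calc G (g p) * X * (G (g p))⁻¹ * (G (g p) * X * (G (g p))⁻¹)
        = G (g p) * (X * X) * (G (g p))⁻¹ := by group
      _ = X * X := by
          rw [central_of π (fun z hz => hker hz) (show π (X * X) = 1 by rw [map_mul, hX, dp_sq]) (G (g p)),
            mul_inv_cancel_right]

end CfsgLib.Sporadic.CosetCert.Fi23P.MultFi
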