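import Cfsg.Agent.Lib.Sporadic.Fi23Mult.Scale
import Cfsg.Prelude.Def_KGroupFacts

/-!
The Schur multiplier of Fi23 is trivial.
-/

set_option autoImplicit false
set_option maxRecDepth 100000

open Cfsg.Spor

namespace CfsgLib.Sporadic.CosetCert.Fi23P.MultFi

open Fi23Data (table)
open Two (el el_img el_single el_append el_nil dp conj_dp gen_eq_dp gpt gpt_val genPts eq_of_sameK sameK)

attribute [local irreducible] PTab.img Forest.cls

/-- The point of the reflection in the highest root. -/
noncomputable def rootPt : Fin table.N := hom (el rootHalf.reverse) (gpt rootMid)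

theorem root_braid : hom (dp (gpt rootB)) rootPt = hom (dp rootPt) (gpt rootB) := by
  obtain ⟨-, -, -, -, -, hth, hb, hm, -⟩ := word_letters
  have hr : ∀ x ∈ rootHalf.reverse, x < 10 := fun x hx => hth x (List.mem_reverse.1 hx)
  refine Fin.ext ?_
  rw [dp_gpt_img hb, rootPt, ← conj_dp, map_mul, map_mul, Equiv.Perm.mul_apply, Equiv.Perm.mul_apply,
    el_img hr, el_img hr, dp_gpt_img hm, show (el rootHalf.reverse)⁻¹ = el rootHalf from by
      rw [← Two.el_reverse hr, List.reverse_reverse],
    el_img hth, gpt_val hb, gpt_val hm]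
  decide +kernel

theorem upts_tab : (List.range uPts.length).all (fun i =>
    OutFi.halfK (uPts.getD i 31671) (uHalf.getD i ([], 0)) &&
      Nat.beq (table.imgW tWord.reverse (uPts.getD i 31671)) (uPts.getD i 31671)) = true := by decide +kernel

theorem uPts_lt : ∀ i < uPts.length, uPts.getD i 31671 < table.N := by decide +kernel

/-- The points in the decomposition. -/
noncomputable def uPoint (i : Fin uPts.length) : Fin table.N := ⟨_, uPts_lt i i.2⟩

theorem u_prod : ((List.finRange uPts.length).map fun i => dp (uPoint i)).prod = el uWord.reverse := by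
  have hK := fun i : Fin uPts.length =>
    (Bool.and_eq_true_iff.1 (List.all_eq_true.1 upts_tab i (List.mem_range.2 i.2))).1
  have hA : ∀ L : List (Fin uPts.length), (L.map fun i => dp (uPoint i)).prod =
      el (L.reverse.flatMap fun i : Fin uPts.length => OutFi.fullWord (uHalf.getD i ([], 0))) := by
    intro L
    induction L with
    | nil => rfl
    | cons i L ih =>
      rw [List.map_cons, List.prod_cons, ih, List.reverse_cons, List.flatMap_append, el_append,
        List.flatMap_cons, List.flatMap_nil, List.append_nil, OutFi.dp_of_half (p := uPoint i) (hK i)]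
  rw [hA]
  refine eq_of_sameK ?_ (fun x hx => word_letters.2.2.2.1 x (List.mem_reverse.1 hx)) (by decide +kernel)
  intro x hx
  obtain ⟨i, -, hx⟩ := List.mem_flatMap.1 hx
  exact OutFi.fullWord_lt (hK i) x hx

theorem cox_label : ∀ a b : Fi23.Gen, (a = b ∧ coxLabel Fi23.edges a b = 1) ∨
    (comB (code a) (code b) = true ∧ coxLabel Fi23.edges a b = 2) ∨
    (adjB (code a) (code b) = true ∧ coxLabel Fi23.edges a b = 3) := by
  intro a b
  cases a <;> cases b <;> decide

theorem spider_order : el ((List.replicate 10 spiderWord).flatten).reverse = 1 := by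
  rw [← el_nil]
  refine eq_of_sameK ?_ (by simp) (by decide +kernel)
  intro x hx
  obtain ⟨l, hl, hx⟩ := List.mem_flatten.1 (List.mem_reverse.1 hx)
  exact word_letters.2.2.1 x (List.eq_of_mem_replicate hl ▸ hx)

variable {E : Type*} [Group E] (π : E →* Fi23)

/-- The relations of Fi23 hold for the scaled lifts. -/
theorem spider_one (hker : π.ker ≤ Subgroup.center E) {e : Fin table.N → E} (heπ : ∀ p, π (e p) = dp p)
    (hconj : ∀ G p, G * e p * G⁻¹ = e (hom (π G) p)) (hsq : ∀ p, e p * e p = 1)
    (hR : Rels (fun x => e (gpt x)) true) : pe (fun x => e (gpt x)) spiderWord ^ 10 = 1 := by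
  obtain ⟨-, -, hS, hu, ht, hth, hb, hm, hG⟩ := word_letters
  have hf : ∀ x < 10, π (e (gpt x)) = coding.gen x := fun x hx => by rw [gen_eq_dp x hx, heπ]
  have hpi := pi_pe π (fun x => e (gpt x)) hf
  have hrev : ∀ L : List ℕ, pe (fun x => e (gpt x)) L.reverse = (pe (fun x => e (gpt x)) L)⁻¹ := by
    intro L
    have h := pe_rev_mul (fun x => e (gpt x)) (1 : E) (fun a => by simp) (fun x => hsq _) L
    rw [one_pow] at h
    exact eq_inv_of_mul_eq_one_left h
  have hrun := pe_eq_of_run hR spider_run
  rw [spiderTotal, pe_append, pe_append, pe_replicate, pe_nil] at hrun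
  have hcom : pe (fun x => e (gpt x)) comWord = 1 := by
    rw [comWord, pe_append, pe_append, pe_append, hrev, hrev]
    generalize hU : pe (fun x => e (gpt x)) uWord = U
    generalize hT : pe (fun x => e (gpt x)) tWord = T
    let P := ((List.finRange uPts.length).map fun i => e (uPoint i)).prod
    have hP : π P = π U := by
      rw [← hU, hpi _ hu, ← u_prod, map_list_prod, List.map_map]
      exact congrArg List.prod (List.map_congr_left fun i _ => heπ _)
    have hTP : Commute T P := by
      refine Commute.list_prod_right _ _ fun x hx => ?_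
      obtain ⟨i, -, rfl⟩ := List.mem_map.1 hx
      have hfix : hom (π T) (uPoint i) = uPoint i := by
        refine Fin.ext ?_
        rw [← hT, hpi _ ht, el_img fun x hx => ht x (List.mem_reverse.1 hx)]
        exact Nat.eq_of_beq_eq_true
          (Bool.and_eq_true_iff.1 (List.all_eq_true.1 upts_tab i (List.mem_range.2 i.2))).2
      have := hconj T (uPoint i)
      rw [hfix] at this
      exact mul_inv_eq_iff_eq_mul.1 this
    have hz : π (P⁻¹ * U) = 1 := by rw [map_mul, map_inv, hP, inv_mul_cancel]
    have hTU : Commute T U := by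
      have := hTP.mul_right (show Commute T (P⁻¹ * U) from central_of π hker hz T)
      rwa [mul_inv_cancel_left] at this
    rw [← hTU.eq]
    group
  have hroot : ∀ neg, pe (fun x => e (gpt x)) (rootWord neg) ^ 3 = 1 := by
    have h1 : pe (fun x => e (gpt x)) (rootWord false) = e (gpt rootB) * e rootPt := by
      show pe _ (rootB :: (rootHalf ++ rootMid :: rootHalf.reverse)) = _
      rw [pe_cons, pe_append, pe_cons, hrev, ← mul_assoc _ (e (gpt rootMid)), hconj, hpi _ hth]
      rfl
    have h2 : (e (gpt rootB) * e rootPt) ^ 3 = 1 := by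
      generalize hX : e (gpt rootB) = X
      generalize hY : e rootPt = Y
      have a1 := hconj X rootPt
      have a2 := hconj Y (gpt rootB)
      rw [← hX, heπ, hX, hY] at a1
      rw [← hY, heπ, hY, hX, ← root_braid, ← a1] at a2
      have hXX : X * X = 1 := hX ▸ hsq _
      have hYY : Y * Y = 1 := hY ▸ hsq _
      rw [inv_eq_of_mul_eq_one_right hXX, inv_eq_of_mul_eq_one_right hYY] at a2
      calc (X * Y) ^ 3 = X * Y * X * (Y * X * Y) := by simp only [pow_succ, pow_zero, one_mul, mul_assoc]
        _ = X * Y * X * (X * Y * X) := by rw [a2]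
        _ = X * (Y * (X * X) * Y) * X := by simp only [mul_assoc]
        _ = 1 := by rw [hXX, mul_one, hYY, mul_one, hXX]
    intro neg
    cases neg
    · rw [h1, h2]
    · show pe _ (rootB :: (rootHalf ++ rootMid :: rootHalf.reverse)).reverse ^ 3 = 1
      rw [hrev, inv_pow, show pe _ (rootB :: (rootHalf ++ rootMid :: rootHalf.reverse)) = _ from h1, h2,
        inv_one]
  have hcubes : ∀ L : List (List ℕ × Bool),
      pe (fun x => e (gpt x)) (L.flatMap fun c => cubeWord c.1 c.2) = 1 := by
    intro L
    induction L with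
    | nil => rfl
    | cons c L ih =>
      rw [List.flatMap_cons, pe_append, ih, mul_one, cubeWord, pe_replicate, pe_append, pe_append, hrev,
        conj_pow, hroot, mul_one, mul_inv_cancel]
  rw [hcom, hcubes, mul_one, mul_one] at hrun
  exact hrun

/-- A finite stem extension of Fi23 has trivial kernel. -/
theorem stem_trivial {σ : E →* Fi23} (hσ : Cfsg.IsStemExtension σ) : σ.ker = ⊥ := by
  obtain ⟨hsur, hker, hle⟩ := hσ
  obtain ⟨e, heπ, hconj, hsq, hcox⟩ := exists_scaled σ hsur hker
  let f : ℕ → E := fun x => e (gpt x)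
  have hR : Rels f true := by
    refine ⟨fun _ x _ => hsq _, fun x y h => ?_, fun x y h => ?_⟩
    · have := hconj (f x) (gpt y)
      rw [heπ, gpt_fix h] at this
      exact mul_inv_eq_iff_eq_mul.1 this
    · have h1 := hconj (f x) (gpt y)
      have h2 := hconj (f y) (gpt x)
      rw [heπ] at h1 h2
      rw [gpt_braid h, inv_eq_of_mul_eq_one_right (hsq _)] at h1
      rw [inv_eq_of_mul_eq_one_right (hsq _)] at h2
      exact h1.trans h2.symm
  have hsp := spider_one σ hker heπ hconj hsq hR
  have hrel : ∀ r ∈ coxRelators Fi23.edges ∪ {r | r ∈ Fi23.extra},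
      FreeGroup.lift (fun a => f (code a)) r = 1 := by
    intro r hr
    rcases hr with ⟨a, -, b, -, rfl⟩ | hr
    · rw [map_pow, map_mul, FreeGroup.lift_apply_of, FreeGroup.lift_apply_of]
      rcases cox_label a b with ⟨rfl, h2⟩ | ⟨h1, h2⟩ | ⟨h1, h2⟩ <;> rw [h2]
      · rw [pow_one]; exact hsq _
      · calc (f (code a) * f (code b)) ^ 2 = f (code a) * f (code b) * (f (code a) * f (code b)) := pow_two _
          _ = f (code a) * f (code b) * (f (code b) * f (code a)) := by rw [hR.comm _ _ h1]
          _ = 1 := by
            rw [mul_assoc, ← mul_assoc (f (code b)), hsq, one_mul]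
            exact hsq _
      · calc (f (code a) * f (code b)) ^ 3
            = f (code a) * f (code b) * f (code a) * (f (code b) * f (code a) * f (code b)) := by
              simp only [pow_succ, pow_zero, one_mul, mul_assoc]
          _ = f (code a) * f (code b) * f (code a) * (f (code a) * f (code b) * f (code a)) := by
              rw [hR.braid _ _ h1]
          _ = f (code a) * (f (code b) * (f (code a) * f (code a)) * f (code b)) * f (code a) := by
              simp only [mul_assoc]
          _ = 1 := by rw [hsq, mul_one, hsq, mul_one]; exact hsq _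
    · simp only [Fi23.extra, List.mem_cons, List.not_mem_nil, or_false, Set.mem_ofPred_eq] at hr
      rcases hr with rfl | rfl
      · rw [show FreeGroup.lift (fun a => f (code a))
          ((Fi23.d * Fi23.c * Fi23.b * Fi23.d * Fi23.e * Fi23.f * Fi23.d * Fi23.h * Fi23.i) ^ 10) =
            pe f spiderWord ^ 10 by
          simp [map_pow, map_mul, pe, spiderWord, code, mul_assoc]]
        exact hsp
      · rw [show FreeGroup.lift (fun a => f (code a))
          ((Fi23.a * Fi23.b * Fi23.c * Fi23.d * Fi23.e * Fi23.f * Fi23.h) ^ 9) = pe f coxWord ^ 9 by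
          simp [map_pow, map_mul, pe, coxWord, code, mul_assoc]]
        exact hcox
  let τ : Fi23 →* E := PresentedGroup.toGroup hrel
  have hτ : σ.comp τ = MonoidHom.id Fi23 := by
    refine PresentedGroup.ext fun a => ?_
    show σ (τ (PresentedGroup.of a)) = PresentedGroup.of a
    rw [show τ (PresentedGroup.of a) = f (code a) from PresentedGroup.toGroup.of hrel, heπ,
      ← gen_eq_dp (code a) (by cases a <;> decide)]
    exact coding.gen_code a
  have hsec : ∀ x, σ (τ x) = x := fun x => DFunLike.congr_fun hτ x
  have hcomm : commutator E ≤ τ.range := by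
    rw [commutator_def, Subgroup.commutator_le]
    intro a _ b _
    refine ⟨σ a * σ b * (σ a)⁻¹ * (σ b)⁻¹, ?_⟩
    rw [map_mul, map_mul, map_mul, map_inv, map_inv]
    simp only [commutatorElement_def]
    exact (comm_value σ hker (by rw [hsec]) (by rw [hsec])).symm
  refine eq_bot_iff.2 fun z hz => ?_
  obtain ⟨x, hx⟩ := hcomm (hle hz)
  have : x = 1 := by rw [← hsec x, hx]; exact MonoidHom.mem_ker.1 hz
  rw [Subgroup.mem_bot, ← hx, this, map_one]

theorem multiplier_trivial : Cfsg.HasCyclicSchurMultiplier Fi23 1 := by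
  have := finite
  refine ⟨⟨Fi23, inferInstance, inferInstance, MonoidHom.id _, ⟨Function.surjective_id, ?_, ?_⟩, ?_⟩, ?_⟩
  · intro x hx
    rw [MonoidHom.mem_ker, MonoidHom.id_apply] at hx
    rw [hx]
    exact one_mem _
  · intro x hx
    rw [MonoidHom.mem_ker, MonoidHom.id_apply] at hx
    rw [hx]
    exact one_mem _
  · have : Subsingleton (MonoidHom.id Fi23).ker := ⟨fun a b => Subtype.ext
      ((MonoidHom.mem_ker.1 a.2).trans (MonoidHom.mem_ker.1 b.2).symm)⟩
    exact ⟨MulEquiv.ofBijective (1 : (MonoidHom.id Fi23).ker →* Multiplicative (ZMod 1))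
      ⟨fun a b _ => Subsingleton.elim a b, fun y => ⟨1, Subsingleton.elim _ _⟩⟩⟩
  · intro Γ _ _ σ hσ
    refine ⟨1, fun y => ⟨1, ?_⟩⟩
    refine Subtype.ext ?_
    have hy : (y : Γ) ∈ (⊥ : Subgroup Γ) := (stem_trivial (E := Γ) hσ).le y.2
    show 1 = (y : Γ)
    exact (Subgroup.mem_bot.1 hy).symm

end CfsgLib.Sporadic.CosetCert.Fi23P.MultFi
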