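import Mathlib.Algebra.Group.Subgroup.Lattice
import Mathlib.Algebra.BigOperators.Group.List.Basic
import Cfsg.Agent.Lib.Sporadic.Fi23SylowTwo.Data

/-!
Rewriting words in the Coxeter relations of the diagram of Fi23 with a cursor.
-/

set_option autoImplicit false

namespace CfsgLib.Sporadic.CosetCert.Fi23P.MultFi

open Two (treePairs)

/-- Two letters are joined in the diagram. -/
def adjB (x y : ℕ) : Bool :=
  treePairs.any fun e => (Nat.beq e.1 x && Nat.beq e.2 y) || (Nat.beq e.1 y && Nat.beq e.2 x)

/-- Two different letters are not joined. -/
def comB (x y : ℕ) : Bool := Nat.blt x 10 && Nat.blt y 10 && !(Nat.beq x y) && !(adjB x y)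

/-- One move of the cursor: cancel, exchange, braid, right, left. -/
def step (canc : Bool) (o : ℕ) : List ℕ × List ℕ → Option (List ℕ × List ℕ)
  | (L, R) =>
    match o, L, R with
    | 1, L, x :: y :: R => bif canc && Nat.blt x 10 && Nat.beq x y then some (L, R) else none
    | 2, L, x :: y :: R => bif comB x y then some (L, y :: x :: R) else none
    | 3, L, x :: y :: z :: R => bif adjB x y && Nat.beq x z then some (L, y :: x :: y :: R) else none
    | 4, L, x :: R => some (x :: L, R)
    | 5, x :: L, R => some (L, x :: R)
    | _, _, _ => none

/-- The moves packed in one number. -/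
def runNum (canc : Bool) : ℕ → ℕ → List ℕ × List ℕ → Option (List ℕ × List ℕ)
  | 0, n, s => bif Nat.beq n 0 then some s else none
  | k + 1, n, s => bif Nat.beq n 0 then some s else (step canc (n % 16) s).bind (runNum canc k (n / 16))

/-- All moves. -/
def runAll (canc : Bool) : List ℕ → List ℕ × List ℕ → Option (List ℕ × List ℕ)
  | [], s => some s
  | n :: ns, s => (runNum canc 256 n s).bind (runAll canc ns)

variable {E : Type*} [Group E]

/-- The product of the elements of a word, in the order written. -/
def pe (f : ℕ → E) (L : List ℕ) : E := (L.map f).prod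

theorem pe_append (f : ℕ → E) (A B : List ℕ) : pe f (A ++ B) = pe f A * pe f B := by
  simp [pe]

theorem pe_cons (f : ℕ → E) (x : ℕ) (L : List ℕ) : pe f (x :: L) = f x * pe f L := by
  simp [pe]

theorem pe_nil (f : ℕ → E) : pe f [] = 1 := rfl

/-- The relations used by the moves. -/
structure Rels (f : ℕ → E) (canc : Bool) : Prop where
  sq : canc = true → ∀ x < 10, f x * f x = 1
  comm : ∀ x y, comB x y = true → f x * f y = f y * f x
  braid : ∀ x y, adjB x y = true → f x * f y * f x = f y * f x * f y

/-- The value of a state. -/
def val (f : ℕ → E) (s : List ℕ × List ℕ) : E := pe f s.1.reverse * pe f s.2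

theorem step_val {f : ℕ → E} {canc : Bool} (h : Rels f canc) {o : ℕ} {s t : List ℕ × List ℕ}
    (hs : step canc o s = some t) : val f t = val f s := by
  obtain ⟨L, R⟩ := s
  simp only [step] at hs
  split at hs
  · rename_i L x y R
    cases hc : (canc && Nat.blt x 10 && Nat.beq x y) <;> rw [hc] at hs
    · exact absurd hs (by simp)
    · simp only [cond_true, Option.some.injEq] at hs
      subst hs
      simp only [Bool.and_eq_true] at hc
      obtain rfl := Nat.eq_of_beq_eq_true hc.2
      simp only [val, pe_cons]
      rw [← mul_assoc (f x), h.sq hc.1.1 x (Nat.le_of_ble_eq_true hc.1.2), one_mul]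
  · rename_i L x y R
    cases hc : comB x y <;> rw [hc] at hs
    · exact absurd hs (by simp)
    · simp only [cond_true, Option.some.injEq] at hs
      subst hs
      simp only [val, pe_cons]
      rw [← mul_assoc (f x), h.comm x y hc, mul_assoc]
  · rename_i L x y z R
    cases hc : (adjB x y && Nat.beq x z) <;> rw [hc] at hs
    · exact absurd hs (by simp)
    · simp only [cond_true, Option.some.injEq] at hs
      subst hs
      simp only [Bool.and_eq_true] at hc
      obtain rfl := Nat.eq_of_beq_eq_true hc.2
      simp only [val, pe_cons]
      have := h.braid x y hc.1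
      rw [show f x * (f y * (f x * pe f R)) = f x * f y * f x * pe f R by simp only [mul_assoc], this]
      simp only [mul_assoc]
  · simp only [Option.some.injEq] at hs
    subst hs
    simp only [val, pe_cons, List.reverse_cons, pe_append, pe_nil, mul_one, mul_assoc]
  · simp only [Option.some.injEq] at hs
    subst hs
    simp only [val, pe_cons, List.reverse_cons, pe_append, pe_nil, mul_one, mul_assoc]
  · exact absurd hs (by simp)

theorem runNum_val {f : ℕ → E} {canc : Bool} (h : Rels f canc) : ∀ (k n : ℕ) (s t : List ℕ × List ℕ),
    runNum canc k n s = some t → val f t = val f s := by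
  intro k
  induction k with
  | zero =>
    intro n s t hs
    simp only [runNum] at hs
    cases hb : Nat.beq n 0 <;> rw [hb] at hs <;> simp at hs
    rw [hs]
  | succ k ih =>
    intro n s t hs
    simp only [runNum] at hs
    cases hb : Nat.beq n 0 <;> rw [hb] at hs
    · simp only [cond_false, Option.bind_eq_some_iff] at hs
      obtain ⟨s', h1, h2⟩ := hs
      rw [ih _ _ _ h2, step_val h h1]
    · simp only [cond_true, Option.some.injEq] at hs
      rw [hs]

theorem runAll_val {f : ℕ → E} {canc : Bool} (h : Rels f canc) : ∀ (ns : List ℕ) (s t : List ℕ × List ℕ),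
    runAll canc ns s = some t → val f t = val f s := by
  intro ns
  induction ns with
  | nil =>
    intro s t hs
    simp only [runAll, Option.some.injEq] at hs
    rw [hs]
  | cons n ns ih =>
    intro s t hs
    simp only [runAll, Option.bind_eq_some_iff] at hs
    obtain ⟨s', h1, h2⟩ := hs
    rw [ih _ _ h2, runNum_val h _ _ _ _ h1]

/-- A successful run proves two words equal. -/
theorem pe_eq_of_run {f : ℕ → E} {canc : Bool} (h : Rels f canc) {ns : List ℕ} {A B : List ℕ}
    (hs : runAll canc ns ([], A) = some ([], B)) : pe f A = pe f B := by
  have := runAll_val h ns _ _ hs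
  simpa [val, pe_nil] using this.symm

end CfsgLib.Sporadic.CosetCert.Fi23P.MultFi
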