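import Cfsg.Agent.Lib.Sporadic.Fi23Mult.Data
import Cfsg.Agent.Lib.Sporadic.Fi23Mult.Moves

/-!
The two rewriting certificates.
-/

set_option autoImplicit false
set_option maxRecDepth 100000
set_option maxHeartbeats 0

namespace CfsgLib.Sporadic.CosetCert.Fi23P.MultFi

/-- The word of the translation by the highest root, in one order or the other. -/
def rootWord (neg : Bool) : List ℕ :=
  let w := rootB :: (rootHalf ++ rootMid :: rootHalf.reverse)
  bif neg then w.reverse else w

/-- The cube of a conjugate of that translation. -/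
def cubeWord (G : List ℕ) (neg : Bool) : List ℕ :=
  (List.replicate 3 (G ++ rootWord neg ++ G.reverse)).flatten

/-- The commutator word. -/
def comWord : List ℕ := uWord ++ tWord ++ uWord.reverse ++ tWord.reverse

/-- The word reduced by the certificate. -/
def spiderTotal : List ℕ :=
  (List.replicate 10 spiderWord).flatten ++ comWord ++ cubes.flatMap fun c => cubeWord c.1 c.2

theorem cox_run : runAll false coxOps ([], coxWord ++ coxConj) =
    some ([], coxConj ++ coxWord.reverse) := by decide +kernel

theorem spider_run : runAll true spiderOps ([], spiderTotal) = some ([], []) := by decide +kernel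

theorem word_letters : (∀ x ∈ coxWord, x < 10) ∧ (∀ x ∈ coxConj, x < 10) ∧ (∀ x ∈ spiderWord, x < 10) ∧
    (∀ x ∈ uWord, x < 10) ∧ (∀ x ∈ tWord, x < 10) ∧ (∀ x ∈ rootHalf, x < 10) ∧ rootB < 10 ∧ rootMid < 10 ∧
    (∀ c ∈ cubes, ∀ x ∈ c.1, x < 10) := by decide +kernel

end CfsgLib.Sporadic.CosetCert.Fi23P.MultFi
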