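import Cfsg.Agent.Lib.Sporadic.Fi23Mult.Class
import Cfsg.Agent.Lib.Sporadic.Fi23Mult.Words

/-!
The lifts can be scaled to involutions satisfying the first further relator of Fi23.
-/

set_option autoImplicit false
set_option maxRecDepth 100000

open Cfsg.Spor

namespace CfsgLib.Sporadic.CosetCert.Fi23P.MultFi

open Fi23Data (table)
open Two (el el_img el_single el_append el_nil dp conj_dp gen_eq_dp gpt gpt_val genPts eq_of_sameK sameK)
open OutFi (dp_sq)

attribute [local irreducible] PTab.img Forest.cls

theorem com_table : (List.range 10).all (fun x => (List.range 10).all fun y =>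
    !(comB x y) || Nat.beq (table.imgW [x] (genPts.getD y 0)) (genPts.getD y 0)) = true := by decide +kernel

theorem adj_table : (List.range 10).all (fun x => (List.range 10).all fun y =>
    !(adjB x y) || Nat.beq (table.imgW [x] (genPts.getD y 0)) (table.imgW [y] (genPts.getD x 0))) = true := by
  decide +kernel

theorem adjB_lt {x y : ℕ} (h : adjB x y = true) : x < 10 ∧ y < 10 := by
  simp only [adjB, Two.treePairs, List.any_cons, List.any_nil, Bool.or_false, Bool.or_eq_true,
    Bool.and_eq_true] at h
  rcases h with h | h | h | h | h | h | h | h | h <;> rcases h with ⟨a, b⟩ | ⟨a, b⟩ <;>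
    rw [← Nat.eq_of_beq_eq_true a, ← Nat.eq_of_beq_eq_true b] <;> norm_num

theorem comB_lt {x y : ℕ} (h : comB x y = true) : x < 10 ∧ y < 10 := by
  simp only [comB, Bool.and_eq_true] at h
  exact ⟨Nat.le_of_ble_eq_true h.1.1.1, Nat.le_of_ble_eq_true h.1.1.2⟩

theorem dp_gpt_img {x : ℕ} (hx : x < 10) (u : Fin table.N) :
    ((hom (dp (gpt x)) u : Fin table.N) : ℕ) = table.imgW [x] u := by
  rw [← gen_eq_dp x hx, ← el_single, el_img (by simpa using hx)]

theorem gpt_fix {x y : ℕ} (h : comB x y = true) : hom (dp (gpt x)) (gpt y) = gpt y := by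
  obtain ⟨hx, hy⟩ := comB_lt h
  refine Fin.ext ?_
  rw [dp_gpt_img hx, gpt_val hy]
  have := List.all_eq_true.1 (List.all_eq_true.1 com_table x (List.mem_range.2 hx)) y (List.mem_range.2 hy)
  rw [h] at this
  exact Nat.eq_of_beq_eq_true this

theorem gpt_braid {x y : ℕ} (h : adjB x y = true) : hom (dp (gpt x)) (gpt y) = hom (dp (gpt y)) (gpt x) := by
  obtain ⟨hx, hy⟩ := adjB_lt h
  refine Fin.ext ?_
  rw [dp_gpt_img hx, dp_gpt_img hy, gpt_val hy, gpt_val hx]
  have := List.all_eq_true.1 (List.all_eq_true.1 adj_table x (List.mem_range.2 hx)) y (List.mem_range.2 hy)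
  rw [h] at this
  exact Nat.eq_of_beq_eq_true this

variable {E : Type*} [Group E] (π : E →* Fi23)

theorem pi_pe (f : ℕ → E) (hf : ∀ x < 10, π (f x) = coding.gen x) :
    ∀ L : List ℕ, (∀ x ∈ L, x < 10) → π (pe f L) = el L.reverse := by
  intro L
  induction L with
  | nil => intro _; rw [pe_nil, map_one]; rfl
  | cons x t ih =>
    intro h
    rw [pe_cons, map_mul, hf x (h x List.mem_cons_self), ih fun y hy => h y (List.mem_cons_of_mem _ hy),
      List.reverse_cons, el_append, el_single]

theorem pe_rev_mul (f : ℕ → E) (ω : E) (hω : ∀ a, a * ω = ω * a) (hsq : ∀ x, f x * f x = ω) :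
    ∀ L : List ℕ, pe f L.reverse * pe f L = ω ^ L.length := by
  intro L
  induction L with
  | nil => simp [pe_nil]
  | cons x t ih =>
    rw [List.reverse_cons, pe_append, pe_cons, pe_cons, pe_nil, mul_one, mul_assoc, ← mul_assoc (f x), hsq,
      ← mul_assoc, hω, mul_assoc, ih, List.length_cons, pow_succ']

theorem cox_order : el ((List.replicate 9 coxWord).flatten).reverse = 1 := by
  rw [← el_nil]
  refine eq_of_sameK ?_ (by simp) (by decide +kernel)
  intro x hx
  obtain ⟨l, hl, hx⟩ := List.mem_flatten.1 (List.mem_reverse.1 hx)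
  exact word_letters.1 x (List.eq_of_mem_replicate hl ▸ hx)

theorem pe_replicate (f : ℕ → E) (n : ℕ) (L : List ℕ) : pe f (List.replicate n L).flatten = pe f L ^ n := by
  induction n with
  | zero => simp [pe_nil]
  | succ n ih => rw [List.replicate_succ, List.flatten_cons, pe_append, ih, pow_succ']

theorem scale_cox (z ω : E) (hc : Commute ω z) (h : z * z = ω ^ 63) : (z⁻¹ * ω ^ 31) ^ 63 * z = 1 := by
  rw [(hc.pow_left 31).inv_right.symm.mul_pow, inv_pow, ← pow_mul, show 31 * 63 = 63 * 31 from rfl,
    pow_mul ω, ← h, ← pow_two, ← pow_mul, mul_assoc, ← pow_succ]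
  exact inv_mul_cancel _

variable (hπ : Function.Surjective π) (hker : π.ker ≤ Subgroup.center E)

include hπ hker in
/-- The scaled lifts. -/
theorem exists_scaled : ∃ e : Fin table.N → E, (∀ p, π (e p) = dp p) ∧
    (∀ G p, G * e p * G⁻¹ = e (hom (π G) p)) ∧ (∀ p, e p * e p = 1) ∧
    pe (fun x => e (gpt x)) coxWord ^ 9 = 1 := by
  obtain ⟨e, ω, hω, heπ, hconj, hsq⟩ := exists_class π hπ hker
  let f : ℕ → E := fun x => e (gpt x)
  have hf : ∀ x < 10, π (f x) = coding.gen x := fun x hx => by rw [gen_eq_dp x hx]; exact heπ _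
  have hR : Rels f false := by
    refine ⟨fun h => absurd h Bool.false_ne_true, fun x y h => ?_, fun x y h => ?_⟩
    · have := hconj (f x) (gpt y)
      rw [heπ, gpt_fix h] at this
      exact mul_inv_eq_iff_eq_mul.1 this
    · have h1 := hconj (f x) (gpt y)
      have h2 := hconj (f y) (gpt x)
      rw [heπ] at h1 h2
      rw [gpt_braid h] at h1
      have h3 : f x * f y * (f x)⁻¹ * (f x * f x) = f y * f x * (f y)⁻¹ * (f y * f y) := by
        rw [hsq, hsq, h1, h2]
      calc f x * f y * f x = f x * f y * (f x)⁻¹ * (f x * f x) := by group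
        _ = f y * f x * (f y)⁻¹ * (f y * f y) := h3
        _ = f y * f x * f y := by group
  have hωc : ∀ a, a * ω = ω * a := central_of π hker hω
  let z := pe f coxWord ^ 9
  have hz : π z = 1 := by
    rw [show z = pe f (List.replicate 9 coxWord).flatten from (pe_replicate f 9 coxWord).symm,
      pi_pe π f hf _ fun x hx => by
        obtain ⟨l, hl, hx⟩ := List.mem_flatten.1 hx
        exact word_letters.1 x (List.eq_of_mem_replicate hl ▸ hx)]
    exact cox_order
  have hzc : ∀ a, a * z = z * a := central_of π hker hz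
  have hz2 : z * z = ω ^ 63 := by
    have h1 := pe_eq_of_run hR cox_run
    rw [pe_append, pe_append] at h1
    have h2 := pe_rev_mul f ω hωc (fun x => hsq _) coxWord
    rw [show coxWord.length = 7 from rfl] at h2
    have h3 : pe f coxWord.reverse ^ 9 = z := by
      have h4 : pe f coxWord.reverse = (pe f coxConj)⁻¹ * pe f coxWord * (pe f coxConj)⁻¹⁻¹ := by
        rw [inv_inv, mul_assoc, h1, inv_mul_cancel_left]
      rw [h4, conj_pow, show pe f coxWord ^ 9 = z from rfl, hzc, mul_inv_cancel_right]
    have hc : Commute (pe f coxWord.reverse) (pe f coxWord) := by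
      have h5 : pe f coxWord.reverse = ω ^ 7 * (pe f coxWord)⁻¹ := eq_mul_inv_of_mul_eq h2
      rw [h5]
      exact (((show Commute ω (pe f coxWord) from (hωc _).symm).pow_left 7).mul_left
        (Commute.refl (pe f coxWord)).inv_left)
    calc z * z = pe f coxWord.reverse ^ 9 * pe f coxWord ^ 9 := by rw [h3]
      _ = (pe f coxWord.reverse * pe f coxWord) ^ 9 := (hc.mul_pow 9).symm
      _ = ω ^ 63 := by rw [h2, ← pow_mul]
  let s := z⁻¹ * ω ^ 31
  have hs : π s = 1 := by simp only [s, map_mul, map_inv, map_pow, hz, hω, inv_one, one_pow, mul_one]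
  have hsc : ∀ a, a * s = s * a := central_of π hker hs
  have hwz : Commute ω z := hzc ω
  have hss : s * s * ω = 1 := by
    calc s * s * ω = (z⁻¹ * z⁻¹) * (ω ^ 31 * ω ^ 31 * ω) := by
          simp only [s, mul_assoc]
          rw [← mul_assoc (ω ^ 31) z⁻¹, ((hwz.pow_left 31).inv_right).eq, mul_assoc z⁻¹ (ω ^ 31)]
      _ = (z * z)⁻¹ * ω ^ 63 := by rw [mul_inv_rev, ← pow_add, ← pow_succ]
      _ = 1 := by rw [hz2, inv_mul_cancel]
  refine ⟨fun p => s * e p, fun p => by rw [map_mul, hs, one_mul, heπ], fun G p => ?_, fun p => ?_, ?_⟩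
  · show G * (s * e p) * G⁻¹ = s * e _
    rw [← hconj G p, ← mul_assoc, hsc G]
    simp only [mul_assoc]
  · show s * e p * (s * e p) = 1
    rw [(show Commute (e p) s from hsc _).mul_mul_mul_comm s (e p), hsq]
    exact hss
  · have hpe : ∀ L : List ℕ, pe (fun x => s * e (gpt x)) L = s ^ L.length * pe f L := by
      intro L
      induction L with
      | nil => simp [pe_nil]
      | cons x t ih =>
        rw [pe_cons, pe_cons, ih, List.length_cons, pow_succ']
        show s * f x * (s ^ t.length * pe f t) = _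
        rw [mul_assoc, ← mul_assoc (f x), ((show Commute (f x) s from hsc _).pow_right _).eq]
        simp only [mul_assoc]
    rw [hpe, show coxWord.length = 7 from rfl,
      ((show Commute s (pe f coxWord) from (hsc _).symm).pow_left 7).mul_pow, ← pow_mul]
    exact scale_cox z ω hwz hz2

end CfsgLib.Sporadic.CosetCert.Fi23P.MultFi
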